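import Cfsg.Agent.Lib.SympTypeF2x73.Grow

/-!
# Configurations of symplectic type: the classification (helper73)
-/

set_option autoImplicit false

namespace Cfsg.Agent.Lib.SympTypeF2x73

variable {V : Type*} [AddCommGroup V] [Module (ZMod 2) V]

/-- A connected configuration is of symmetric, orthogonal or symplectic type. -/
theorem classify [Finite V] (C : Config V) : Classified C := by
  rcases sym_or_e6 C with h | ⟨c, hc⟩
  · exact Or.inl h
  have hdim : 6 ≤ Module.finrank (ZMod 2) V := by
    have := LinearMap.finrank_le_finrank_of_injective (T6_injective hc)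
    rwa [Module.finrank_fin_fun] at this
  obtain ⟨q, hq, hone⟩ := exists_ones hc
  by_cases hall : ∀ d ∈ C.D, q d = 1
  · exact Or.inr (Or.inl ⟨hdim, q, hq, Set.ext fun v => ⟨hall v, hone v⟩⟩)
  push Not at hall
  obtain ⟨v, hv, hqv⟩ := hall
  have hv0 : q v = 0 := z2_zero_of_ne hqv
  -- adjacent singular vectors spread
  have spread : ∀ v w, v ∈ C.D → q v = 0 → q w = 0 → C.B v w = 1 → w ∈ C.D := by
    intro v w hv hv0 hw0 hvw
    have hs : v + w ∈ C.D := hone _ (by rw [hq, hv0, hw0, hvw]; decide)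
    have := C.add_mem v hv _ hs (by rw [map_add, C.alt, hvw, zero_add])
    rwa [vadd_cancel_left] at this
  refine Or.inr (Or.inr ⟨hdim, Set.ext fun w => ⟨fun h => ne_zero C h, fun hw => ?_⟩⟩)
  rcases z2_cases (q w) with hw0 | hw1
  swap
  · exact hone w hw1
  rcases eq_or_ne w v with rfl | hwv
  · exact hv
  rcases z2_cases (C.B v w) with hvw | hvw
  swap
  · exact spread v w hv hv0 hw0 hvw
  -- a singular vector adjacent to both
  have hd : ∃ a ∈ (⊤ : Submodule (ZMod 2) V), C.B a v = 1 := by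
    obtain ⟨e, -, he⟩ := exists_adj C (ne_zero C hv)
    exact ⟨e, trivial, by rw [B_comm, he]⟩
  have hne : ∃ a ∈ (⊤ : Submodule (ZMod 2) V), C.B a (v + w) ≠ C.B a v := by
    obtain ⟨e, -, he⟩ := exists_adj C hw
    exact ⟨e, trivial, by rw [map_add, B_comm C e w, he]; intro h; simp at h⟩
  obtain ⟨u₀, hu₀, h1, h2⟩ := exists_sep (v + w) hd hne
  obtain ⟨z, -, hz0, hzv, hzs, -, -⟩ := exists_find hc le_top hq (v + w) v hu₀ h1 h2 0
  have hzw : C.B z w = 1 := by
    rw [map_add, hzv] at hzs
    revert hzs; generalize C.B z w = x; revert x; decide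
  exact spread z w (spread v z hv hv0 hz0 (by rw [B_comm, hzv])) hz0 hw0 hzw

end Cfsg.Agent.Lib.SympTypeF2x73
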