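import Cfsg.Agent.Lib.SympTypeF2x73.Defs

/-!
# Configurations of symplectic type: elementary facts (helper73)
-/

set_option autoImplicit false

namespace Cfsg.Agent.Lib.SympTypeF2x73

theorem z2_cases : ∀ a : ZMod 2, a = 0 ∨ a = 1 := by decide

theorem z2_one_of_ne : ∀ {a : ZMod 2}, a ≠ 0 → a = 1 := by decide

theorem z2_zero_of_ne : ∀ {a : ZMod 2}, a ≠ 1 → a = 0 := by decide

theorem z2_add_self : ∀ a : ZMod 2, a + a = 0 := by decide

theorem z2_one_ne_zero : (1 : ZMod 2) ≠ 0 := by decide

@[simp] theorem ind_self {α : Type*} [DecidableEq α] (i : α) : ind i i = 1 := by simp [ind]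

theorem ind_of_ne {α : Type*} [DecidableEq α] {i k : α} (h : i ≠ k) : ind i k = 0 := by
  simp [ind, h]

theorem ind_comm {α : Type*} [DecidableEq α] (i k : α) : ind i k = ind k i := by
  simp [ind, eq_comm]

variable {V : Type*} [AddCommGroup V] [Module (ZMod 2) V]

theorem vadd_self (v : V) : v + v = 0 := by
  have h : ((1 : ZMod 2) + 1) • v = 0 := by
    rw [z2_add_self]; exact zero_smul _ v
  rwa [add_smul, one_smul] at h

theorem vadd_eq_zero {v w : V} : v + w = 0 ↔ v = w := by
  constructor
  · intro h
    calc v = (v + w) + w := by rw [add_assoc, vadd_self, add_zero]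
      _ = w := by rw [h, zero_add]
  · rintro rfl; exact vadd_self v

theorem vadd_cancel (v w : V) : v + w + w = v := by rw [add_assoc, vadd_self, add_zero]

theorem vadd_cancel_left (v w : V) : v + (v + w) = w := by
  rw [← add_assoc, vadd_self, zero_add]

variable (C : Config V)

theorem B_comm (u v : V) : C.B u v = C.B v u := by
  have h := C.alt (u + v)
  simp only [map_add, LinearMap.add_apply, C.alt, zero_add, add_zero] at h
  revert h
  generalize C.B u v = a
  generalize C.B v u = b
  revert a b
  decide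

theorem ne_zero {v : V} (hv : v ∈ C.D) : v ≠ 0 := fun h => C.zero_notMem (h ▸ hv)

theorem ne_of_B {a b : V} (h : C.B a b = 1) : a ≠ b := by
  rintro rfl
  rw [C.alt] at h
  exact z2_one_ne_zero h.symm

/-- Some member of `D` fails to be orthogonal to a given non-zero vector. -/
theorem exists_adj {r : V} (hr : r ≠ 0) : ∃ e ∈ C.D, C.B r e = 1 := by
  by_contra h
  push Not at h
  apply hr
  refine C.nondeg r fun w => ?_
  have hD : C.D ⊆ (LinearMap.ker (C.B r) : Set V) := fun e he => z2_zero_of_ne (h e he)
  have := Submodule.span_le.2 hD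
  rw [C.span_eq_top] at this
  exact this (x := w) trivial

variable {C}

/-- A star: the value of a linear functional on the pair sums. -/
theorem star_B {n : ℕ} {x : Fin n → V} (hx : IsStar C x) (i j k l : Fin n) :
    C.B (x i + x j) (x k + x l) = ind i k + ind i l + ind j k + ind j l := hx.2 i j k l

theorem star_B_one {n : ℕ} {x : Fin n → V} (hx : IsStar C x) {i j l : Fin n} (hij : i ≠ j)
    (hil : i ≠ l) (hjl : j ≠ l) : C.B (x i + x j) (x i + x l) = 1 := by
  rw [star_B hx, ind_self, ind_of_ne hil, ind_of_ne hij.symm, ind_of_ne hjl]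
  decide

theorem star_B_zero {n : ℕ} {x : Fin n → V} (hx : IsStar C x) {i j k l : Fin n}
    (hik : i ≠ k) (hil : i ≠ l) (hjk : j ≠ k) (hjl : j ≠ l) :
    C.B (x i + x j) (x k + x l) = 0 := by
  rw [star_B hx, ind_of_ne hik, ind_of_ne hil, ind_of_ne hjk, ind_of_ne hjl]
  decide

/-- Three indices outside a list of at most `n - 1` given ones exist. -/
theorem exists_notMem {n : ℕ} (s : Finset (Fin n)) (h : s.card < n) : ∃ i, i ∉ s := by
  by_contra hc
  push Not at hc
  have : Finset.univ ⊆ s := fun i _ => hc i
  have := Finset.card_le_card this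
  simp at this
  omega

/-- For at least five points the pair sums are distinct. -/
theorem star_inj {n : ℕ} (hn : 5 ≤ n) {x : Fin n → V} (hx : IsStar C x) {i j k l : Fin n}
    (hij : i ≠ j) (hkl : k ≠ l) (h : x i + x j = x k + x l) :
    (i = k ∧ j = l) ∨ (i = l ∧ j = k) := by
  have hmem : i = k ∨ i = l := by
    by_contra hc
    push Not at hc
    obtain ⟨m, hm⟩ := exists_notMem ({i, j, k, l} : Finset (Fin n)) (by
      have := Finset.card_le_four (a := i) (b := j) (c := k) (d := l)
      omega)
    simp only [Finset.mem_insert, Finset.mem_singleton, not_or] at hm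
    obtain ⟨h1, h2, h3, h4⟩ := hm
    have hL : C.B (x i + x j) (x i + x m) = 1 := star_B_one hx hij (Ne.symm h1) (Ne.symm h2)
    rw [h, star_B_zero hx hc.1.symm (Ne.symm h3) hc.2.symm (Ne.symm h4)] at hL
    exact z2_one_ne_zero hL.symm
  have hmem' : j = k ∨ j = l := by
    by_contra hc
    push Not at hc
    obtain ⟨m, hm⟩ := exists_notMem ({i, j, k, l} : Finset (Fin n)) (by
      have := Finset.card_le_four (a := i) (b := j) (c := k) (d := l)
      omega)
    simp only [Finset.mem_insert, Finset.mem_singleton, not_or] at hm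
    obtain ⟨h1, h2, h3, h4⟩ := hm
    have hL : C.B (x j + x i) (x j + x m) = 1 :=
      star_B_one hx hij.symm (Ne.symm h2) (Ne.symm h1)
    rw [add_comm (x j), h, star_B_zero hx hc.1.symm (Ne.symm h3) hc.2.symm (Ne.symm h4)] at hL
    exact z2_one_ne_zero hL.symm
  rcases hmem with rfl | rfl <;> rcases hmem' with rfl | rfl
  · exact absurd rfl hij
  · exact Or.inl ⟨rfl, rfl⟩
  · exact Or.inr ⟨rfl, rfl⟩
  · exact absurd rfl hij

/-- The number of points of a star with at least five points is bounded. -/
theorem star_le_card [Finite V] {n : ℕ} (hn : 5 ≤ n) {x : Fin n → V} (hx : IsStar C x) :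
    n ≤ Nat.card V + 1 := by
  classical
  let z : Fin n := ⟨0, by omega⟩
  have hinj : Function.Injective (fun i : {i : Fin n // i ≠ z} => x z + x i.1) := by
    rintro ⟨i, hi⟩ ⟨j, hj⟩ h
    rcases star_inj hn hx (Ne.symm hi) (Ne.symm hj) h with ⟨-, h'⟩ | ⟨h', -⟩
    · exact Subtype.ext h'
    · exact absurd h'.symm hj
  have := Nat.card_le_card_of_injective _ hinj
  rw [Nat.card_eq_fintype_card, Fintype.card_subtype_compl, Fintype.card_fin,
    Fintype.card_subtype_eq] at this
  omega

end Cfsg.Agent.Lib.SympTypeF2x73
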