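import Mathlib

/-!
# Configurations of symplectic type over the field with two elements (helper73)

`Config V`: a nondegenerate alternating form `B` on a space over `ZMod 2` and a connected spanning
set `D` of non-zero vectors with `a + b ∈ D` whenever `a, b ∈ D` and `B a b = 1`.  These are the
centres of the transvections of a class of 3-transpositions of symplectic type.

The classification (`Main.classify`) says that `D` is of symmetric type, consists of the vectors
of value one of a quadratic form polarising to `B`, or consists of all non-zero vectors.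
-/

set_option autoImplicit false

namespace Cfsg.Agent.Lib.SympTypeF2x73

/-- A connected configuration of transvection centres. -/
structure Config (V : Type*) [AddCommGroup V] [Module (ZMod 2) V] where
  B : V →ₗ[ZMod 2] V →ₗ[ZMod 2] ZMod 2
  D : Set V
  alt : ∀ v, B v v = 0
  nondeg : ∀ v, (∀ w, B v w = 0) → v = 0
  zero_notMem : (0 : V) ∉ D
  add_mem : ∀ a ∈ D, ∀ b ∈ D, B a b = 1 → a + b ∈ D
  span_eq_top : Submodule.span (ZMod 2) D = ⊤
  conn : ∀ A ⊆ D, A.Nonempty → (∀ a ∈ A, ∀ b ∈ D, B a b = 1 → b ∈ A) → A = D
  big : ∃ a ∈ D, ∃ b ∈ D, B a b = 1 ∧ ∃ c ∈ D, c ≠ a ∧ c ≠ b ∧ c ≠ a + b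

/-- The indicator of equality with values in `ZMod 2`. -/
def ind {α : Type*} [DecidableEq α] (i k : α) : ZMod 2 := if i = k then 1 else 0

variable {V : Type*} [AddCommGroup V] [Module (ZMod 2) V]

/-- Points `x i` whose pairwise sums behave as the transpositions of a symmetric group. -/
def IsStar (C : Config V) {n : ℕ} (x : Fin n → V) : Prop :=
  (∀ i j, i ≠ j → x i + x j ∈ C.D) ∧
    ∀ i j k l, C.B (x i + x j) (x k + x l) = ind i k + ind i l + ind j k + ind j l

/-- `D` is the set of the `n.choose 2` pair sums of a star with at least five points. -/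
def IsSymType (C : Config V) : Prop :=
  ∃ (n : ℕ) (x : Fin n → V), 5 ≤ n ∧ IsStar C x ∧
    (∀ i j k l, i ≠ j → k ≠ l → x i + x j = x k + x l → (i = k ∧ j = l) ∨ (i = l ∧ j = k)) ∧
    C.D = {v | ∃ i j, i ≠ j ∧ v = x i + x j}

/-- `q` is a quadratic form with polar form `B`. -/
def IsPolar (C : Config V) (q : V → ZMod 2) : Prop :=
  ∀ u v, q (u + v) = q u + q v + C.B u v

/-- `D` is the set of the vectors of value one of a quadratic form polarising to `B`. -/
def IsOrthType (C : Config V) : Prop :=
  6 ≤ Module.finrank (ZMod 2) V ∧ ∃ q : V → ZMod 2, IsPolar C q ∧ C.D = {v | q v = 1}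

/-- `D` consists of all non-zero vectors. -/
def IsSpType (C : Config V) : Prop :=
  6 ≤ Module.finrank (ZMod 2) V ∧ C.D = {v | v ≠ 0}

/-- The statement proved in `Main.classify`. -/
def Classified (C : Config V) : Prop := IsSymType C ∨ IsOrthType C ∨ IsSpType C

end Cfsg.Agent.Lib.SympTypeF2x73
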