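import Cfsg.Agent.Lib.SympTypeF2x73.Six

/-!
# Growing the span of a diagram `E₆` one vector at a time (helper73)
-/

set_option autoImplicit false

namespace Cfsg.Agent.Lib.SympTypeF2x73

variable {V : Type*} [AddCommGroup V] [Module (ZMod 2) V] {C : Config V} {c : Fin 6 → V}

/-- `v` is outside the radical of `U`. -/
def OffRad (C : Config V) (U : Submodule (ZMod 2) V) (v : V) : Prop := ∃ w ∈ U, C.B v w = 1

/-- The vectors of `U` of value one outside the radical of `U` lie in `D`. -/
def Good (C : Config V) (U : Submodule (ZMod 2) V) (q : V → ZMod 2) : Prop :=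
  IsPolar C q ∧ ∀ v ∈ U, q v = 1 → OffRad C U v → v ∈ C.D

theorem eq_zero_of_no_offRad {U : Submodule (ZMod 2) V} {v : V} (h : ¬ OffRad C U v) {w : V}
    (hw : w ∈ U) : C.B v w = 0 := z2_zero_of_ne fun h1 => h ⟨w, hw, h1⟩

/-- A vector of `U` with prescribed products and value. -/
theorem exists_find (hc : IsE6 C c) {U : Submodule (ZMod 2) V}
    (hU : LinearMap.range (T6 c) ≤ U) {q : V → ZMod 2} (hq : IsPolar C q) (u d : V) {u₀ : V}
    (hu₀ : u₀ ∈ U) (hd₀ : C.B u₀ d = 1) (hu₀u : C.B u₀ u = 0) (a : ZMod 2) :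
    ∃ x ∈ U, q x = a ∧ C.B x d = 1 ∧ C.B x u = 0 ∧ OffRad C U x ∧ OffRad C U (u + x) := by
  obtain ⟨t₁, t₂, t₃, ⟨h12, h13, h23⟩, ht⟩ := many hc hq (C.B d) (C.B u) u₀ a
  have hinj : ∀ (z : V) (s s' : W6), ¬ OffRad C U (z + T6 c s) → ¬ OffRad C U (z + T6 c s') →
      s = s' := by
    intro z s s' h h'
    refine vadd_eq_zero.1 (T6_ker hc (s + s') fun t => ?_)
    have hm : T6 c t ∈ U := hU ⟨t, rfl⟩
    have e := eq_zero_of_no_offRad h hm
    have e' := eq_zero_of_no_offRad h' hm
    simp only [map_add, LinearMap.add_apply] at e e' ⊢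
    generalize C.B z (T6 c t) = z0 at e e'
    generalize C.B (T6 c s) (T6 c t) = z1 at e ⊢
    generalize C.B (T6 c s') (T6 c t) = z2 at e' ⊢
    revert z0 z1 z2; decide
  have pick : ∃ t, (t = t₁ ∨ t = t₂ ∨ t = t₃) ∧ OffRad C U (u₀ + T6 c t) ∧
      OffRad C U (u + (u₀ + T6 c t)) := by
    by_contra hn
    push Not at hn
    have e1 := hn t₁ (Or.inl rfl)
    have e2 := hn t₂ (Or.inr (Or.inl rfl))
    have e3 := hn t₃ (Or.inr (Or.inr rfl))
    simp only [← add_assoc] at e1 e2 e3
    by_cases a1 : OffRad C U (u₀ + T6 c t₁) <;> by_cases a2 : OffRad C U (u₀ + T6 c t₂)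
    · exact h12 (hinj _ _ _ (e1 a1) (e2 a2))
    · by_cases a3 : OffRad C U (u₀ + T6 c t₃)
      · exact h13 (hinj _ _ _ (e1 a1) (e3 a3))
      · exact h23 (hinj _ _ _ a2 a3)
    · by_cases a3 : OffRad C U (u₀ + T6 c t₃)
      · exact h23 (hinj _ _ _ (e2 a2) (e3 a3))
      · exact h13 (hinj _ _ _ a1 a3)
    · exact h12 (hinj _ _ _ a1 a2)
  obtain ⟨t, htt, hx1, hx2⟩ := pick
  obtain ⟨htd, htu, htq⟩ := ht t htt
  refine ⟨_, U.add_mem hu₀ (hU ⟨t, rfl⟩), htq, ?_, ?_, hx1, hx2⟩
  · rw [map_add C.B, LinearMap.add_apply, hd₀, B_comm C _ d, htd, add_zero]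
  · rw [map_add C.B, LinearMap.add_apply, hu₀u, B_comm C _ u, htu, add_zero]

/-- Two linear forms on `U`: either they agree or one vector separates them. -/
theorem exists_sep {U : Submodule (ZMod 2) V} {d : V} (u : V) (hd : ∃ a ∈ U, C.B a d = 1)
    (hne : ∃ a ∈ U, C.B a u ≠ C.B a d) : ∃ x ∈ U, C.B x d = 1 ∧ C.B x u = 0 := by
  by_contra h
  push Not at h
  obtain ⟨a, ha, had⟩ := hd
  obtain ⟨b, hb, hbne⟩ := hne
  have hau := z2_one_of_ne (h a ha had)
  rcases z2_cases (C.B b d) with hbd | hbd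
  · have hab : C.B (a + b) d = 1 := by rw [map_add, LinearMap.add_apply, had, hbd, add_zero]
    have := h _ (U.add_mem ha hb) hab
    rw [map_add, LinearMap.add_apply, hau] at this
    rw [hbd] at hbne
    rw [z2_one_of_ne hbne] at this
    exact this (by decide)
  · rw [hbd, z2_one_of_ne (h b hb hbd)] at hbne
    exact hbne rfl

/-- One step. -/
theorem grow_step [Finite V] (hc : IsE6 C c) {U : Submodule (ZMod 2) V}
    (hU : LinearMap.range (T6 c) ≤ U) {q : V → ZMod 2} (hg : Good C U q) (hne : U ≠ ⊤) :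
    ∃ (U' : Submodule (ZMod 2) V) (q' : V → ZMod 2), U < U' ∧ Good C U' q' := by
  have hc0 : c 0 ∈ U := hU ⟨unit6 0, T6_unit 0⟩
  obtain ⟨d, hd, hdU, a, haU, had⟩ :
      ∃ d ∈ C.D, d ∉ U ∧ ∃ a ∈ U, C.B a d = 1 := by
    by_contra h
    push Not at h
    have := C.conn {v | v ∈ C.D ∧ v ∈ U} (fun v hv => hv.1) ⟨c 0, hc.1 0, hc0⟩
      fun a ha b hb hab => ⟨hb, by_contra fun hbU => h b hb hbU a ha.2 hab⟩
    apply hne
    rw [eq_top_iff, ← C.span_eq_top, Submodule.span_le]
    intro v hv
    rw [← this] at hv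
    exact hv.2
  obtain ⟨lam, hlam, hlamU⟩ := Submodule.exists_dual_map_eq_bot_of_notMem hdU inferInstance
  have hlamd : lam d = 1 := z2_one_of_ne hlam
  have hlam0 : ∀ u ∈ U, lam u = 0 := fun u hu => by
    rw [← Submodule.mem_bot (R := ZMod 2), ← hlamU]
    exact Submodule.mem_map_of_mem hu
  let q' : V → ZMod 2 := fun v => q v + (q d + 1) * lam v
  have hq' : IsPolar C q' := fun u v => by
    simp only [q', hg.1 u v, map_add]; ring
  have hqU : ∀ u ∈ U, q' u = q u := fun u hu => by simp [q', hlam0 u hu]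
  have hqd : q' d = 1 := by
    simp only [q', hlamd, mul_one, ← add_assoc, z2_add_self, zero_add]
  refine ⟨U ⊔ Submodule.span (ZMod 2) {d}, q',
    lt_of_le_of_ne le_sup_left fun h => hdU ?_, hq', ?_⟩
  · rw [h]; exact Submodule.mem_sup_right (Submodule.mem_span_singleton_self d)
  -- the vectors of `U` outside the radical
  have hin : ∀ u ∈ U, q' u = 1 → OffRad C U u → u ∈ C.D := fun u hu h1 h2 =>
    hg.2 u hu (hqU u hu ▸ h1) h2
  have sing : ∀ u ∈ U, q' u = 0 → C.B u d = 0 →
      (∃ w ∈ U, C.B w u ≠ C.B w d) → u + d ∈ C.D := by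
    intro u hu hu0 hud hsep
    obtain ⟨u₀, hu₀, h1, h2⟩ := exists_sep u ⟨a, haU, had⟩ hsep
    obtain ⟨x, hx, hxq, hxd, hxu, hx1, hx2⟩ := exists_find hc hU hq' u d hu₀ h1 h2 1
    have hxD : x ∈ C.D := hin x hx hxq hx1
    have hyD : u + x ∈ C.D := hin _ (U.add_mem hu hx)
      (by rw [hq', hu0, hxq, B_comm, hxu, zero_add, add_zero]) hx2
    have hB : C.B (x + d) (u + x) = 1 := by
      simp only [map_add, LinearMap.add_apply]
      rw [hxu, C.alt, B_comm C d u, hud, B_comm C d x, hxd]; decide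
    have := C.add_mem _ (C.add_mem x hxD d hd hxd) _ hyD hB
    have e : x + d + (u + x) = u + d := by
      rw [add_add_add_comm, add_comm x u, add_comm d x, ← add_assoc, vadd_cancel]
    rwa [e] at this
  have outer : ∀ u ∈ U, q' (u + d) = 1 → OffRad C (U ⊔ Submodule.span (ZMod 2) {d}) (u + d) →
      u + d ∈ C.D := by
    intro u hu h1 h2
    rw [hq', hqd] at h1
    rcases z2_cases (C.B u d) with hud | hud
    · have hu0 : q' u = 0 := by
        rw [hud] at h1; revert h1; generalize q' u = x; revert x; decide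
      by_cases hsep : ∃ w ∈ U, C.B w u ≠ C.B w d
      · exact sing u hu hu0 hud hsep
      · push Not at hsep
        exfalso
        obtain ⟨w, hw, hwv⟩ := h2
        have hker : U ⊔ Submodule.span (ZMod 2) {d} ≤ LinearMap.ker (C.B (u + d)) := by
          rw [sup_le_iff, Submodule.span_singleton_le_iff_mem]
          refine ⟨fun z hz => ?_, ?_⟩
          · rw [LinearMap.mem_ker, map_add, LinearMap.add_apply, B_comm C u, B_comm C d, hsep z hz,
              z2_add_self]
          · rw [LinearMap.mem_ker, map_add, LinearMap.add_apply, hud, C.alt, add_zero]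
        rw [hker hw] at hwv
        exact z2_one_ne_zero hwv.symm
    · have hu1 : q' u = 1 := by
        rw [hud] at h1; revert h1; generalize q' u = x; revert x; decide
      by_cases hR : OffRad C U u
      · exact C.add_mem u (hin u hu hu1 hR) d hd hud
      · -- move `d` by a member of `U` adjacent to it
        obtain ⟨x, hx, hxq, hxd, hxu, hx1, -⟩ := exists_find hc hU hq' 0 d haU had (by simp) 1
        have hxD : x ∈ C.D := hin x hx hxq hx1
        have hux : C.B u x = 0 := eq_zero_of_no_offRad hR hx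
        obtain ⟨w, hw, hxw⟩ := hx1
        have hyD : u + x + d ∈ C.D := sing (u + x) (U.add_mem hu hx)
          (by rw [hq', hu1, hxq, hux, add_zero, z2_add_self])
          (by rw [map_add, LinearMap.add_apply, hud, hxd, z2_add_self])
          ⟨x, hx, by rw [map_add, B_comm C x u, hux, C.alt, hxd]; decide⟩
        have := C.add_mem _ hyD x hxD (by
          simp only [map_add, LinearMap.add_apply]
          rw [hux, C.alt, B_comm C d x, hxd]; decide)
        have e : u + x + d + x = u + d := by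
          rw [add_assoc u, add_assoc u, add_comm x d, vadd_cancel]
        rwa [e] at this
  intro v hv hv1 hvR
  obtain ⟨u, hu, z, hz, rfl⟩ := Submodule.mem_sup.1 hv
  obtain ⟨r, rfl⟩ := Submodule.mem_span_singleton.1 hz
  rcases z2_cases r with rfl | rfl
  · rw [zero_smul, add_zero] at hv1 hvR ⊢
    by_cases hR : OffRad C U u
    · exact hin u hu hv1 hR
    · have hud : C.B u d = 1 := by
        obtain ⟨w, hw, huw⟩ := hvR
        obtain ⟨w₁, hw₁, z, hz, rfl⟩ := Submodule.mem_sup.1 hw
        obtain ⟨r, rfl⟩ := Submodule.mem_span_singleton.1 hz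
        rw [map_add, eq_zero_of_no_offRad hR hw₁, zero_add, map_smul, smul_eq_mul] at huw
        revert huw; generalize C.B u d = b; clear * -; revert r b; decide
      have hw : C.B (u + d) d = 1 := by
        rw [map_add, LinearMap.add_apply, hud, C.alt, add_zero]
      have := outer u hu (by rw [hq', hv1, hqd, hud]; decide)
        ⟨d, Submodule.mem_sup_right (Submodule.mem_span_singleton_self d), hw⟩
      have := C.add_mem _ this d hd hw
      rwa [vadd_cancel] at this
  · rw [one_smul] at hv1 hvR ⊢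
    exact outer u hu hv1 hvR

/-- All vectors of value one of some quadratic form polarising to `B` lie in `D`. -/
theorem exists_ones [Finite V] (hc : IsE6 C c) :
    ∃ q : V → ZMod 2, IsPolar C q ∧ ∀ v, q v = 1 → v ∈ C.D := by
  suffices ∀ U : Submodule (ZMod 2) V, LinearMap.range (T6 c) ≤ U → ∀ q, Good C U q →
      ∃ q, Good C ⊤ q by
    obtain ⟨q₀, hq₀, hqT⟩ := exists_polar hc
    obtain ⟨q, hq, hD⟩ := this _ le_rfl q₀ ⟨hq₀, by
      rintro v ⟨t, rfl⟩ h1 -
      exact T6_mem hc t (hqT t ▸ h1)⟩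
    refine ⟨q, hq, fun v hv => hD v trivial hv ?_⟩
    by_contra hR
    have : v = 0 := C.nondeg v fun w => eq_zero_of_no_offRad hR (Submodule.mem_top (x := w))
    subst this
    have h0 := hq 0 0
    simp [hv] at h0

  intro U
  induction U using WellFoundedGT.induction with
  | ind U ih =>
    intro hU q hg
    rcases eq_or_ne U ⊤ with rfl | hne
    · exact ⟨q, hg⟩
    · obtain ⟨U', q', hlt, hg'⟩ := grow_step hc hU hg hne
      exact ih U' hlt (hU.trans hlt.le) q' hg'

end Cfsg.Agent.Lib.SympTypeF2x73
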