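import Cfsg.Agent.Lib.SympTypeF2x73.Start

/-!
# The six-dimensional space of a diagram `E₆` over the field with two elements (helper73)
-/

set_option autoImplicit false

namespace Cfsg.Agent.Lib.SympTypeF2x73

/-- Coordinates. -/
abbrev W6 : Type := Fin 6 → ZMod 2

/-- The form of `E₆`. -/
def bM (s t : W6) : ZMod 2 :=
  s 0 * t 1 + s 1 * t 0 + s 1 * t 2 + s 2 * t 1 + s 2 * t 3 + s 3 * t 2 + s 2 * t 4 + s 4 * t 2 +
    s 4 * t 5 + s 5 * t 4

/-- The quadratic form of `E₆` modulo two. -/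
def qM (s : W6) : ZMod 2 :=
  s 0 + s 1 + s 2 + s 3 + s 4 + s 5 + s 0 * s 1 + s 1 * s 2 + s 2 * s 3 + s 2 * s 4 + s 4 * s 5

theorem qM_add (s t : W6) : qM (s + t) = qM s + qM t + bM s t := by
  simp only [qM, bM, Pi.add_apply]; ring

/-- The unit vectors. -/
def unit6 (i : Fin 6) : W6 := fun j => if j = i then 1 else 0

/-- The vector with the binary digits of a number. -/
def vec6 (m : Fin 64) : W6 := fun i => if Nat.testBit m.val i.val then 1 else 0

/-- Heights, parents and labels of the 36 vectors of value one. -/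
def height6 : List ℕ :=
  [0, 0, 0, 1, 0, 0, 1, 2, 0, 0, 0, 0, 1, 0, 2, 3, 0, 0, 0, 0, 1, 0, 2, 3, 0, 6, 4, 5, 2, 0, 3, 4,
    0, 0, 0, 0, 0, 10, 0, 0, 0, 8, 6, 7, 0, 9, 0, 0, 1, 0, 0, 0, 2, 0, 3, 4, 0, 7, 5, 6, 3, 0, 4, 5]

/-- The parents. -/
def parent6 : List (Fin 64) :=
  [0, 0, 0, 1, 0, 0, 2, 3, 0, 0, 0, 0, 4, 0, 6, 7, 0, 0, 0, 0, 4, 0, 6, 7, 0, 27, 30, 31, 12, 0,
    14, 15, 0, 0, 0, 0, 0, 45, 0, 0, 0, 57, 58, 59, 0, 41, 0, 0, 16, 0, 0, 0, 20, 0, 22, 23, 0, 25,
    26, 27, 28, 0, 30, 31]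

/-- The labels. -/
def label6 : List (Fin 6) :=
  [0, 0, 0, 1, 0, 0, 2, 2, 0, 0, 0, 0, 3, 0, 3, 3, 0, 0, 0, 0, 4, 0, 4, 4, 0, 1, 2, 2, 4, 0, 4, 4,
    0, 0, 0, 0, 0, 3, 0, 0, 0, 4, 4, 4, 0, 2, 0, 0, 5, 0, 0, 0, 5, 0, 5, 5, 0, 5, 5, 5, 5, 0, 5, 5]

theorem parent6_spec : ∀ m : Fin 64, qM (vec6 m) = 1 →
    (∃ i, vec6 m = unit6 i) ∨
      (height6.getD (parent6.getD m.val 0).val 0 < height6.getD m.val 0 ∧
        qM (vec6 (parent6.getD m.val 0)) = 1 ∧
        vec6 m = vec6 (parent6.getD m.val 0) + unit6 (label6.getD m.val 0) ∧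
        bM (vec6 (parent6.getD m.val 0)) (unit6 (label6.getD m.val 0)) = 1) := by
  decide +kernel

theorem vec6_surj : ∀ t : W6, ∃ m, vec6 m = t := by decide +kernel

theorem bM_nondeg : ∀ s : W6, (∀ i, bM s (unit6 i) = 0) → s = 0 := by decide +kernel

theorem bM_unit : ∀ i j, bM (unit6 i) (unit6 j) = e6 i j := by decide +kernel

theorem qM_unit : ∀ i, qM (unit6 i) = 1 := by decide +kernel

variable {V : Type*} [AddCommGroup V] [Module (ZMod 2) V] {C : Config V} {c : Fin 6 → V}

/-- The parametrisation of the span of a diagram. -/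
def T6 (c : Fin 6 → V) : W6 →ₗ[ZMod 2] V := Fintype.linearCombination (ZMod 2) c

theorem T6_apply (t : W6) : T6 c t =
    t 0 • c 0 + t 1 • c 1 + t 2 • c 2 + t 3 • c 3 + t 4 • c 4 + t 5 • c 5 := by
  simp [T6, Fintype.linearCombination_apply, Fin.sum_univ_six]

theorem T6_unit (i : Fin 6) : T6 c (unit6 i) = c i := by
  simp [T6, Fintype.linearCombination_apply, unit6, ite_smul]

theorem B_T6 (hc : IsE6 C c) (s t : W6) : C.B (T6 c s) (T6 c t) = bM s t := by
  simp [T6_apply, hc.2, e6, bM]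
  ring

theorem T6_ker (hc : IsE6 C c) (s : W6) (h : ∀ t, C.B (T6 c s) (T6 c t) = 0) : s = 0 :=
  bM_nondeg s fun i => by rw [← B_T6 hc]; exact h _

theorem T6_injective (hc : IsE6 C c) : Function.Injective (T6 c) := by
  rw [← LinearMap.ker_eq_bot, LinearMap.ker_eq_bot']
  intro s hs
  exact T6_ker hc s fun t => by simp [hs]

/-- The vectors of value one in the span lie in `D`. -/
theorem T6_mem (hc : IsE6 C c) (t : W6) (ht : qM t = 1) : T6 c t ∈ C.D := by
  obtain ⟨m, rfl⟩ := vec6_surj t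
  suffices ∀ k m, height6.getD (m : Fin 64).val 0 ≤ k → qM (vec6 m) = 1 → T6 c (vec6 m) ∈ C.D from
    this _ m le_rfl ht
  intro k
  induction k with
  | zero =>
    intro m hm hq
    rcases parent6_spec m hq with ⟨i, hi⟩ | ⟨hlt, -⟩
    · rw [hi, T6_unit]; exact hc.1 i
    · omega
  | succ k ih =>
    intro m hm hq
    rcases parent6_spec m hq with ⟨i, hi⟩ | ⟨hlt, hq', he, hb⟩
    · rw [hi, T6_unit]; exact hc.1 i
    · rw [he, map_add]
      refine C.add_mem _ (ih _ (by omega) hq') _ ?_ ?_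
      · rw [T6_unit]; exact hc.1 _
      · rw [B_T6 hc]; exact hb

/-- A quadratic form polarising to `B` which has value one on the diagram. -/
theorem exists_polar [Finite V] (hc : IsE6 C c) :
    ∃ q : V → ZMod 2, IsPolar C q ∧ ∀ t, q (T6 c t) = qM t := by
  classical
  have b := Module.Free.chooseBasis (ZMod 2) V
  have : Fintype (Module.Free.ChooseBasisIndex (ZMod 2) V) :=
    @Fintype.ofFinite _ (Finite.of_injective b b.injective)
  let : LinearOrder (Module.Free.ChooseBasisIndex (ZMod 2) V) :=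
    LinearOrder.lift' _ (Fintype.equivFin _).injective
  let A : V →ₗ[ZMod 2] V →ₗ[ZMod 2] ZMod 2 :=
    b.constr (ZMod 2) fun i => b.constr (ZMod 2) fun j => if i < j then C.B (b i) (b j) else 0
  have hA : ∀ u v, A u v + A v u = C.B u v := by
    have : A + A.flip = C.B := by
      refine b.ext fun i => b.ext fun j => ?_
      simp only [LinearMap.add_apply, LinearMap.flip_apply, A, Module.Basis.constr_basis]
      rcases lt_trichotomy i j with h | rfl | h
      · rw [if_pos h, if_neg h.asymm, add_zero]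
      · rw [if_neg (lt_irrefl _), C.alt, add_zero]
      · rw [if_neg h.asymm, if_pos h, zero_add, B_comm]
    intro u v
    rw [← this]; rfl
  have hq0 : ∀ u v, A (u + v) (u + v) = A u u + A v v + C.B u v := fun u v => by
    rw [← hA]; simp only [map_add, LinearMap.add_apply]; abel
  -- correct the values on the diagram by a linear form
  have hsurj : Function.Surjective (fun w : W6 => fun i => bM (unit6 i) w) := by
    apply Finite.surjective_of_injective
    intro w w' h
    apply T6_injective hc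
    rw [← vadd_eq_zero, ← map_add]
    suffices w + w' = 0 by rw [this, map_zero]
    refine bM_nondeg _ fun i => ?_
    have := congrFun h i
    simp only at this
    rw [← B_T6 hc, B_comm, map_add, map_add, B_T6 hc, B_T6 hc, this, z2_add_self]
  obtain ⟨w, hw⟩ := hsurj fun i => A (c i) (c i) + 1
  let q : V → ZMod 2 := fun v => A v v + C.B v (T6 c w)
  have hpol : IsPolar C q := fun u v => by
    simp only [q]
    rw [hq0, map_add C.B, LinearMap.add_apply]; ring
  have hqc : ∀ i, q (c i) = 1 := fun i => by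
    have h1 : C.B (c i) (T6 c w) = A (c i) (c i) + 1 := by
      rw [← T6_unit (c := c) i, B_T6 hc, T6_unit]; exact congrFun hw i
    simp only [q, h1, ← add_assoc, z2_add_self, zero_add]
  refine ⟨q, hpol, fun t => ?_⟩
  let δ : W6 →+ ZMod 2 := AddMonoidHom.mk' (fun t => q (T6 c t) + qM t) fun s t => by
    rw [map_add, hpol, qM_add, B_T6 hc]
    generalize q (T6 c s) = a
    generalize q (T6 c t) = a'
    generalize qM s = b'
    generalize qM t = b''
    generalize bM s t = e
    revert a a' b' b'' e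
    decide
  have hδ : δ.toZModLinearMap 2 = 0 := by
    refine (Pi.basisFun (ZMod 2) (Fin 6)).ext fun i => ?_
    have hu : (Pi.basisFun (ZMod 2) (Fin 6)) i = unit6 i := by
      ext j; simp [unit6, Pi.single_apply]
    rw [hu]
    show q (T6 c (unit6 i)) + qM (unit6 i) = 0
    rw [T6_unit, hqc, qM_unit, z2_add_self]
  have := congrArg (fun f : W6 →ₗ[ZMod 2] ZMod 2 => f t) hδ
  simp only [LinearMap.zero_apply] at this
  exact vadd_eq_zero.1 this

/-- In any two hyperplanes' meet, an affine quadratic function takes each value three times. -/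
theorem many (hc : IsE6 C c) {q : V → ZMod 2} (hq : IsPolar C q) (φ ψ : V →ₗ[ZMod 2] ZMod 2)
    (u₀ : V) (a : ZMod 2) : ∃ t₁ t₂ t₃ : W6, (t₁ ≠ t₂ ∧ t₁ ≠ t₃ ∧ t₂ ≠ t₃) ∧
      ∀ t, t = t₁ ∨ t = t₂ ∨ t = t₃ →
        φ (T6 c t) = 0 ∧ ψ (T6 c t) = 0 ∧ q (u₀ + T6 c t) = a := by
  classical
  let L : W6 →ₗ[ZMod 2] ZMod 2 × ZMod 2 := (φ.comp (T6 c)).prod (ψ.comp (T6 c))
  have hK : 4 ≤ Module.finrank (ZMod 2) (LinearMap.ker L) := by
    have h := LinearMap.finrank_range_add_finrank_ker L
    have hr := Submodule.finrank_le (LinearMap.range L)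
    simp only [Module.finrank_prod, Module.finrank_self, Module.finrank_fin_fun] at h hr
    omega
  obtain ⟨k₁, hk₁, k₂, hk₂, h12⟩ : ∃ k₁ ∈ LinearMap.ker L, ∃ k₂ ∈ LinearMap.ker L,
      bM k₁ k₂ = 1 := by
    by_contra h
    push Not at h
    let Bs : W6 →ₗ[ZMod 2] Module.Dual (ZMod 2) W6 := C.B.compl₁₂ (T6 c) (T6 c)
    have hBs : Function.Injective Bs := by
      rw [← LinearMap.ker_eq_bot, LinearMap.ker_eq_bot']
      intro s hs
      refine T6_ker hc s fun t => ?_
      exact congrArg (fun f : Module.Dual (ZMod 2) W6 => f t) hs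
    have hle : (LinearMap.ker L).map Bs ≤ (LinearMap.ker L).dualAnnihilator := by
      rintro f ⟨s, hs, rfl⟩
      rw [Submodule.mem_dualAnnihilator]
      intro t ht
      exact (B_T6 hc s t).trans (z2_zero_of_ne (h s hs t ht))
    have h1 := Submodule.finrank_mono hle
    rw [LinearEquiv.finrank_eq (Submodule.equivMapOfInjective Bs hBs (LinearMap.ker L)).symm] at h1
    have h2 := Subspace.finrank_add_finrank_dualAnnihilator_eq (LinearMap.ker L)
    rw [Module.finrank_fin_fun] at h2
    omega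
  let K : Finset W6 := Finset.univ.filter fun t => t ∈ LinearMap.ker L
  let S : Finset W6 := K.filter fun t => q (u₀ + T6 c t) = a
  have hKcard : 16 ≤ K.card := by
    have : K.card = Nat.card (LinearMap.ker L) := by
      rw [Nat.card_eq_fintype_card]; exact (Fintype.card_subtype _).symm
    rw [this, Module.natCard_eq_pow_finrank (K := ZMod 2) (V := LinearMap.ker L), Nat.card_zmod]
    calc 16 = 2 ^ 4 := by norm_num
      _ ≤ _ := Nat.pow_le_pow_right (by norm_num) hK
  have hcover : K ⊆ (S ×ˢ ({0, k₁, k₂, k₁ + k₂} : Finset W6)).image fun p => p.1 + p.2 := by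
    intro k hk
    simp only [K, Finset.mem_filter, Finset.mem_univ, true_and] at hk
    have key : ∃ d ∈ ({0, k₁, k₂, k₁ + k₂} : Finset W6), q (u₀ + T6 c (k + d)) = a := by
      by_contra hn
      push Not at hn
      have v0 := hn 0 (by simp)
      have v1 := hn k₁ (by simp)
      have v2 := hn k₂ (by simp)
      have v3 := hn (k₁ + k₂) (by simp)
      simp only [add_zero] at v0
      simp only [map_add, ← add_assoc] at v1 v2 v3
      rw [hq] at v1 v2 v3
      rw [hq (u₀ + T6 c k) (T6 c k₁)] at v3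
      simp only [map_add, LinearMap.add_apply, B_T6 hc, h12] at v1 v2 v3
      revert v0 v1 v2 v3
      generalize q (u₀ + T6 c k) = x0
      generalize q (T6 c k₁) = x1
      generalize q (T6 c k₂) = x2
      generalize C.B u₀ (T6 c k₁) + bM k k₁ = y1
      generalize C.B u₀ (T6 c k₂) + bM k k₂ = y2
      clear * -
      revert x0 x1 x2 y1 y2 a
      decide
    obtain ⟨d, hd, hqd⟩ := key
    have hdK : d ∈ LinearMap.ker L := by
      simp only [Finset.mem_insert, Finset.mem_singleton] at hd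
      rcases hd with rfl | rfl | rfl | rfl
      · exact Submodule.zero_mem _
      · exact hk₁
      · exact hk₂
      · exact Submodule.add_mem _ hk₁ hk₂
    refine Finset.mem_image.2 ⟨(k + d, d), Finset.mem_product.2 ⟨?_, hd⟩, vadd_cancel k d⟩
    simp only [S, K, Finset.mem_filter, Finset.mem_univ, true_and]
    exact ⟨Submodule.add_mem _ hk hdK, hqd⟩
  have hS : 2 < S.card := by
    have h1 := (Finset.card_le_card hcover).trans Finset.card_image_le
    rw [Finset.card_product] at h1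
    have h2 := Finset.card_le_four (a := (0 : W6)) (b := k₁) (c := k₂) (d := k₁ + k₂)
    have := Nat.mul_le_mul_left S.card h2
    omega
  obtain ⟨t₁, t₂, t₃, h1, h2, h3, hne⟩ := Finset.two_lt_card_iff.1 hS
  refine ⟨t₁, t₂, t₃, hne, fun t ht => ?_⟩
  have : t ∈ S := by rcases ht with rfl | rfl | rfl <;> assumption
  simp only [S, K, Finset.mem_filter, Finset.mem_univ, true_and, LinearMap.mem_ker] at this
  exact ⟨congrArg Prod.fst this.1, congrArg Prod.snd this.1, this.2⟩

end Cfsg.Agent.Lib.SympTypeF2x73
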