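import Cfsg.Agent.Lib.SympTypeF2x73.Basic

/-!
# Stars: a star is everything, extends, or there is a diagram of type `E₆` (helper73)
-/

set_option autoImplicit false

namespace Cfsg.Agent.Lib.SympTypeF2x73

/-- The incidence matrix of the diagram `E₆`: edges 01, 12, 23, 24, 45. -/
def e6 : Fin 6 → Fin 6 → ZMod 2 :=
  ![![0, 1, 0, 0, 0, 0],
    ![1, 0, 1, 0, 0, 0],
    ![0, 1, 0, 1, 1, 0],
    ![0, 0, 1, 0, 0, 0],
    ![0, 0, 1, 0, 0, 1],
    ![0, 0, 0, 0, 1, 0]]

theorem e6_symm : ∀ i j, e6 i j = e6 j i := by decide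

theorem e6_self : ∀ i, e6 i i = 0 := by decide

variable {V : Type*} [AddCommGroup V] [Module (ZMod 2) V]

/-- Six members forming a diagram of type `E₆`. -/
def IsE6 (C : Config V) (c : Fin 6 → V) : Prop :=
  (∀ i, c i ∈ C.D) ∧ ∀ i j, C.B (c i) (c j) = e6 i j

variable {C : Config V}

/-- It is enough to check the entries above the diagonal. -/
theorem isE6_of_lt {c : Fin 6 → V} (hD : ∀ i, c i ∈ C.D)
    (h : ∀ i j, i < j → C.B (c i) (c j) = e6 i j) : IsE6 C c := by
  refine ⟨hD, fun i j => ?_⟩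
  rcases lt_trichotomy i j with hij | rfl | hij
  · exact h i j hij
  · rw [C.alt, e6_self]
  · rw [B_comm, e6_symm]; exact h j i hij

section Star

variable {n : ℕ} {x : Fin n → V}

theorem B_pair (d : V) (i j : Fin n) : C.B d (x i + x j) = C.B d (x i) + C.B d (x j) := map_add _ _ _

/-- A member separating one point from the others extends the star. -/
theorem extend (hx : IsStar C x) {d : V} (hd : d ∈ C.D) (i0 : Fin n) (c : ZMod 2)
    (hf : ∀ k, C.B d (x k) = ind i0 k + c) :
    ∃ y : Fin (n + 1) → V, IsStar C y := by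
  have hdd : ∀ j, d + x i0 + x j = d + (x i0 + x j) := fun j => add_assoc _ _ _
  have hlast : ∀ j, j ≠ i0 → d + x i0 + x j ∈ C.D := fun j hj => by
    rw [hdd]
    refine C.add_mem d hd _ (hx.1 i0 j (Ne.symm hj)) ?_
    rw [B_pair, hf, hf, ind_self, ind_of_ne (Ne.symm hj)]
    rcases z2_cases c with rfl | rfl <;> decide
  -- `B` of `d` against a pair
  have hdp : ∀ k l, C.B d (x k + x l) = ind i0 k + ind i0 l := fun k l => by
    rw [B_pair, hf, hf]
    rcases z2_cases c with rfl | rfl <;> rcases z2_cases (ind i0 k) with h | h <;>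
      rcases z2_cases (ind i0 l) with h' | h' <;> rw [h, h'] <;> decide
  have hlk : ∀ i k l, C.B (d + x i0 + x i) (x k + x l) = ind i k + ind i l := fun i k l => by
    rw [hdd, map_add C.B, LinearMap.add_apply, hdp, star_B hx]
    rcases z2_cases (ind i0 k) with h | h <;>
      rcases z2_cases (ind i0 l) with h' | h' <;> rw [h, h'] <;>
      rcases z2_cases (ind i k) with g | g <;>
      rcases z2_cases (ind i l) with g' | g' <;> rw [g, g'] <;> decide
  have hll : ∀ i k, C.B (d + x i0 + x i) (d + x i0 + x k) = 1 + ind i k := fun i k => by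
    rw [hdd k, map_add, B_comm C (d + x i0 + x i) d, hdd i, map_add (C.B d), C.alt, hdp,
      ind_self, zero_add, ← hdd i, hlk, ind_comm i i0]
    rcases z2_cases (ind i0 i) with h | h <;> rcases z2_cases (ind i k) with g | g <;>
      rw [h, g] <;> decide
  refine ⟨Fin.snoc x (d + x i0), ?_, ?_⟩
  · intro i j hij
    rcases Fin.eq_castSucc_or_eq_last i with ⟨i', rfl⟩ | rfl <;>
      rcases Fin.eq_castSucc_or_eq_last j with ⟨j', rfl⟩ | rfl <;>
      simp only [Fin.snoc_castSucc, Fin.snoc_last]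
    · exact hx.1 i' j' (fun h => hij (h ▸ rfl))
    · rcases eq_or_ne i' i0 with rfl | h
      · rw [add_comm, vadd_cancel]; exact hd
      · rw [add_comm]; exact hlast i' h
    · rcases eq_or_ne j' i0 with rfl | h
      · rw [vadd_cancel]; exact hd
      · exact hlast j' h
    · exact absurd rfl hij
  · have hcs : ∀ a b : Fin n, ind a.castSucc b.castSucc = ind a b := fun a b => by
      simp [ind, Fin.castSucc_inj]
    have hcl : ∀ a : Fin n, ind a.castSucc (Fin.last n) = 0 := fun a =>
      ind_of_ne (Fin.castSucc_lt_last a).ne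
    have hlc : ∀ a : Fin n, ind (Fin.last n) a.castSucc = 0 := fun a =>
      ind_of_ne (Fin.castSucc_lt_last a).ne'
    intro i j k l
    rcases Fin.eq_castSucc_or_eq_last i with ⟨i', rfl⟩ | rfl <;>
      rcases Fin.eq_castSucc_or_eq_last j with ⟨j', rfl⟩ | rfl <;>
      rcases Fin.eq_castSucc_or_eq_last k with ⟨k', rfl⟩ | rfl <;>
      rcases Fin.eq_castSucc_or_eq_last l with ⟨l', rfl⟩ | rfl <;>
      simp only [Fin.snoc_castSucc, Fin.snoc_last, hcs, hcl, hlc, ind_self, vadd_self, map_zero,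
        LinearMap.zero_apply, add_zero, zero_add]
    · exact star_B hx i' j' k' l'
    · rw [add_comm (x k'), B_comm, hlk, ind_comm k' i', ind_comm k' j']
    · rw [B_comm, hlk, ind_comm l' i', ind_comm l' j']
    · rw [add_comm (x i'), hlk]
    · rw [add_comm (x i'), add_comm (x k'), hll, add_comm]
    · rw [add_comm (x i'), hll, add_comm]
    · rw [hlk]
    · rw [add_comm (x k'), hll, add_comm]
    · rw [hll, add_comm]

/-- Translates of the pairs by an orthogonal vector: one gives all. -/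
theorem orbit (hn : 5 ≤ n) (hx : IsStar C x) {r : V} (hr : ∀ k l, C.B r (x k + x l) = 0)
    {p q : Fin n} (hpq : p ≠ q) (h : r + (x p + x q) ∈ C.D) :
    ∀ s t, s ≠ t → r + (x s + x t) ∈ C.D := by
  have step : ∀ p q s, p ≠ q → s ≠ p → s ≠ q → r + (x p + x q) ∈ C.D →
      r + (x s + x q) ∈ C.D := by
    intro p q s hpq hsp hsq hD
    have := C.add_mem _ hD (x p + x s) (hx.1 p s (Ne.symm hsp)) (by
      rw [map_add C.B, LinearMap.add_apply, hr, zero_add]
      exact star_B_one hx hpq (Ne.symm hsp) (Ne.symm hsq))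
    have e : r + (x p + x q) + (x p + x s) = r + (x s + x q) := by
      have : x p + x q + (x p + x s) = x s + x q := by
        rw [add_comm (x s), add_add_add_comm, vadd_self, zero_add]
      rw [add_assoc, this]
    rwa [e] at this
  intro s t hst
  -- move the pair `{p, q}` to `{m, m'}` avoiding all four indices and then to `{s, t}`
  obtain ⟨m, hm⟩ := exists_notMem ({p, q, s, t} : Finset (Fin n)) (by
    have := Finset.card_le_four (a := p) (b := q) (c := s) (d := t)
    omega)
  simp only [Finset.mem_insert, Finset.mem_singleton, not_or] at hm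
  obtain ⟨hmp, hmq, hms, hmt⟩ := hm
  have h1 : r + (x m + x q) ∈ C.D := step p q m hpq hmp hmq h
  have h1' : r + (x q + x m) ∈ C.D := by rwa [add_comm (x q)]
  have h2 : r + (x t + x m) ∈ C.D := by
    rcases eq_or_ne t q with rfl | htq
    · exact h1'
    · exact step q m t (Ne.symm hmq) htq (Ne.symm hmt) h1'
  have h2' : r + (x m + x t) ∈ C.D := by rwa [add_comm (x m)]
  exact step m t s hmt (Ne.symm hms) hst h2'

/-- Two blocks of three points on either side give a diagram `E₆`. -/
theorem e6_of_three (hx : IsStar C x) {d : V} (hd : d ∈ C.D) {p₁ p₂ p₃ q₁ q₂ q₃ : Fin n}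
    (hp : p₁ ≠ p₂ ∧ p₁ ≠ p₃ ∧ p₂ ≠ p₃) (hq : q₁ ≠ q₂ ∧ q₁ ≠ q₃ ∧ q₂ ≠ q₃)
    (hfp₁ : C.B d (x p₁) = C.B d (x p₂)) (hfp₂ : C.B d (x p₂) = C.B d (x p₃))
    (hfq₁ : C.B d (x q₁) = C.B d (x q₂)) (hfq₂ : C.B d (x q₂) = C.B d (x q₃))
    (hpq : C.B d (x p₁) ≠ C.B d (x q₁)) : ∃ c, IsE6 C c := by
  have hne : ∀ p q : Fin n, C.B d (x p) = C.B d (x p₁) → C.B d (x q) = C.B d (x q₁) → p ≠ q := by
    rintro p q h h' rfl
    exact hpq (h.symm.trans h')
  have n11 := hne p₁ q₁ rfl rfl
  have n12 := hne p₁ q₂ rfl hfq₁.symm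
  have n13 := hne p₁ q₃ rfl (hfq₁.trans hfq₂).symm
  have n21 := hne p₂ q₁ hfp₁.symm rfl
  have n22 := hne p₂ q₂ hfp₁.symm hfq₁.symm
  have n23 := hne p₂ q₃ hfp₁.symm (hfq₁.trans hfq₂).symm
  have n31 := hne p₃ q₁ (hfp₁.trans hfp₂).symm rfl
  have n32 := hne p₃ q₂ (hfp₁.trans hfp₂).symm hfq₁.symm
  have n33 := hne p₃ q₃ (hfp₁.trans hfp₂).symm (hfq₁.trans hfq₂).symm
  have d12 : C.B d (x p₁ + x p₂) = 0 := by rw [B_pair, hfp₁, z2_add_self]
  have d23 : C.B d (x p₂ + x p₃) = 0 := by rw [B_pair, hfp₂, z2_add_self]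
  have d31 : C.B d (x p₃ + x q₁) = 1 := by
    rw [B_pair, ← hfp₂, ← hfp₁]
    revert hpq
    generalize C.B d (x p₁) = a
    generalize C.B d (x q₁) = b
    revert a b
    decide
  have dq12 : C.B d (x q₁ + x q₂) = 0 := by rw [B_pair, hfq₁, z2_add_self]
  have dq23 : C.B d (x q₂ + x q₃) = 0 := by rw [B_pair, hfq₂, z2_add_self]
  refine ⟨![x p₁ + x p₂, x p₂ + x p₃, x p₃ + x q₁, d, x q₁ + x q₂, x q₂ + x q₃],
    isE6_of_lt ?_ ?_⟩
  · intro i
    fin_cases i
    · exact hx.1 _ _ hp.1
    · exact hx.1 _ _ hp.2.2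
    · exact hx.1 _ _ n31
    · exact hd
    · exact hx.1 _ _ hq.1
    · exact hx.1 _ _ hq.2.2
  · have s12 : C.B (x p₁ + x p₂) (x p₂ + x p₃) = 1 := by
      rw [add_comm (x p₁)]; exact star_B_one hx hp.1.symm hp.2.2 hp.2.1
    have s23 : C.B (x p₂ + x p₃) (x p₃ + x q₁) = 1 := by
      rw [add_comm (x p₂)]; exact star_B_one hx hp.2.2.symm n31 n21
    have s35 : C.B (x p₃ + x q₁) (x q₁ + x q₂) = 1 := by
      rw [add_comm (x p₃)]; exact star_B_one hx n31.symm hq.1 n32
    have s56 : C.B (x q₁ + x q₂) (x q₂ + x q₃) = 1 := by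
      rw [add_comm (x q₁)]; exact star_B_one hx hq.1.symm hq.2.2 hq.2.1
    intro i j hij
    fin_cases i <;> fin_cases j <;> first
      | exact absurd hij (by decide)
      | exact s12
      | exact star_B_zero hx hp.2.1 n11 hp.2.2 n21
      | exact (B_comm C _ _).trans d12
      | exact star_B_zero hx n11 n12 n21 n22
      | exact star_B_zero hx n12 n13 n22 n23
      | exact s23
      | exact (B_comm C _ _).trans d23
      | exact star_B_zero hx n21 n22 n31 n32
      | exact star_B_zero hx n22 n23 n32 n33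
      | exact (B_comm C _ _).trans d31
      | exact s35
      | exact star_B_zero hx n32 n33 hq.1 hq.2.1
      | exact dq12
      | exact dq23
      | exact s56

theorem fin_three {n : ℕ} {s : Finset (Fin n)} (h : 2 < s.card) :
    ∃ a b c, a ∈ s ∧ b ∈ s ∧ c ∈ s ∧ a ≠ b ∧ a ≠ c ∧ b ≠ c := Finset.two_lt_card_iff.1 h

/-- The star grows or there is a diagram `E₆`. -/
def Next (C : Config V) (n : ℕ) : Prop :=
  (∃ y : Fin (n + 1) → V, IsStar C y) ∨ ∃ c, IsE6 C c

/-- The ways in which a member can see the points of a star. -/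
theorem cases (_hn : 5 ≤ n) (hx : IsStar C x) {d : V} (hd : d ∈ C.D) :
    (∀ k l, C.B d (x k + x l) = 0) ∨
      (∃ p q c, p ≠ q ∧ ∀ k, C.B d (x k) = ind p k + ind q k + c) ∨ Next C n := by
  classical
  have hsum : ∀ c : ZMod 2, (Finset.univ.filter fun k => C.B d (x k) = c).card +
      (Finset.univ.filter fun k => C.B d (x k) = c + 1).card = n := by
    intro c
    rw [← Finset.card_union_of_disjoint]
    · convert Finset.card_fin n
      ext k
      simp only [Finset.mem_union, Finset.mem_filter, Finset.mem_univ, true_and, iff_true]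
      generalize C.B d (x k) = a
      revert a c; decide
    · rw [Finset.disjoint_filter]
      intro k _ h h'
      rw [h] at h'
      exact (show ∀ a : ZMod 2, a ≠ a + 1 by decide) c h'
  have hval : ∀ (c : ZMod 2) k, C.B d (x k) ≠ c → C.B d (x k) = c + 1 := by
    intro c k; generalize C.B d (x k) = a; revert a c; decide
  by_cases hbig : ∀ c : ZMod 2, 2 < (Finset.univ.filter fun k => C.B d (x k) = c).card
  · obtain ⟨p₁, p₂, p₃, hp₁, hp₂, hp₃, hp⟩ := fin_three (hbig 0)
    obtain ⟨q₁, q₂, q₃, hq₁, hq₂, hq₃, hq⟩ := fin_three (hbig 1)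
    simp only [Finset.mem_filter, Finset.mem_univ, true_and] at hp₁ hp₂ hp₃ hq₁ hq₂ hq₃
    exact Or.inr (Or.inr (Or.inr (e6_of_three hx hd hp hq (by rw [hp₁, hp₂]) (by rw [hp₂, hp₃])
      (by rw [hq₁, hq₂]) (by rw [hq₂, hq₃]) (by rw [hp₁, hq₁]; decide))))
  push Not at hbig
  obtain ⟨c, hc⟩ := hbig
  set S := Finset.univ.filter fun k => C.B d (x k) = c with hS
  have hmem : ∀ k, k ∈ S ↔ C.B d (x k) = c := fun k => by simp [hS]
  rcases Nat.lt_or_ge S.card 1 with h0 | h1
  · refine Or.inl fun k l => ?_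
    have : ∀ k, C.B d (x k) = c + 1 := fun k => hval c k fun h => by
      have := Finset.card_pos.2 ⟨k, (hmem k).2 h⟩
      omega
    rw [B_pair, this, this, z2_add_self]
  rcases Nat.lt_or_ge S.card 2 with h2 | h2
  · obtain ⟨a, ha⟩ := Finset.card_eq_one.1 (show S.card = 1 by omega)
    refine Or.inr (Or.inr (Or.inl (extend hx hd a (c + 1) fun k => ?_)))
    rcases eq_or_ne a k with rfl | hak
    · rw [(hmem a).1 (by simp [ha]), ind_self]; clear * -; revert c; decide
    · rw [hval c k fun h => hak (by simpa [ha, eq_comm] using (hmem k).2 h), ind_of_ne hak,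
        zero_add]
  · obtain ⟨a, b, hab, hS2⟩ := Finset.card_eq_two.1 (show S.card = 2 by omega)
    refine Or.inr (Or.inl ⟨a, b, c + 1, hab, fun k => ?_⟩)
    rcases eq_or_ne a k with rfl | hak
    · rw [(hmem a).1 (by simp [hS2]), ind_self, ind_of_ne hab.symm]; clear * -; revert c; decide
    rcases eq_or_ne b k with rfl | hbk
    · rw [(hmem b).1 (by simp [hS2]), ind_self, ind_of_ne hab]; clear * -; revert c; decide
    · rw [hval c k fun h => by
        have := (hmem k).2 h
        simp [hS2] at this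
        rcases this with rfl | rfl
        · exact hak rfl
        · exact hbk rfl, ind_of_ne hak, ind_of_ne hbk, zero_add, zero_add]

/-- A member that sees two points without being their sum leads to a diagram `E₆` or a larger
star. -/
theorem next_of_two (hn : 5 ≤ n) (hx : IsStar C x) {d : V} (hd : d ∈ C.D) {p q : Fin n}
    (hpq : p ≠ q) {c : ZMod 2} (hf : ∀ k, C.B d (x k) = ind p k + ind q k + c)
    (hnot : d ≠ x p + x q) : Next C n := by
  have hdr : ∀ k l, C.B (d + (x p + x q)) (x k + x l) = 0 := fun k l => by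
    rw [map_add C.B, LinearMap.add_apply, B_pair, hf, hf, star_B hx]
    rcases z2_cases c with rfl | rfl <;> rcases z2_cases (ind p k) with h | h <;>
      rcases z2_cases (ind q k) with h' | h' <;> rw [h, h'] <;>
      rcases z2_cases (ind p l) with g | g <;>
      rcases z2_cases (ind q l) with g' | g' <;> rw [g, g'] <;> decide
  set r := d + (x p + x q) with hr
  have hr0 : r ≠ 0 := fun h => hnot (vadd_eq_zero.1 h)
  have horb : ∀ s t, s ≠ t → r + (x s + x t) ∈ C.D :=
    orbit hn hx hdr hpq (by rw [hr, vadd_cancel]; exact hd)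
  obtain ⟨e, he, hre⟩ := exists_adj C hr0
  -- a member orthogonal to the pairs and adjacent to `r`
  have key : (∃ f ∈ C.D, C.B r f = 1 ∧ ∀ k l, C.B f (x k + x l) = 0) →
      ∃ c6, IsE6 C c6 := by
    rintro ⟨f, hfD, hrf, hfp⟩
    obtain ⟨i₁, -⟩ := exists_notMem (∅ : Finset (Fin n)) (by simp; omega)
    obtain ⟨i₂, h2⟩ := exists_notMem ({i₁} : Finset (Fin n)) (by simp; omega)
    obtain ⟨i₃, h3⟩ := exists_notMem ({i₁, i₂} : Finset (Fin n)) (by
      have := Finset.card_le_two (a := i₁) (b := i₂)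
      omega)
    obtain ⟨i₄, h4⟩ := exists_notMem ({i₁, i₂, i₃} : Finset (Fin n)) (by
      have := Finset.card_le_three (a := i₁) (b := i₂) (c := i₃)
      omega)
    obtain ⟨i₅, h5⟩ := exists_notMem ({i₁, i₂, i₃, i₄} : Finset (Fin n)) (by
      have := Finset.card_le_four (a := i₁) (b := i₂) (c := i₃) (d := i₄)
      omega)
    simp only [Finset.mem_insert, Finset.mem_singleton, not_or] at h2 h3 h4 h5
    have hrr : ∀ k l, C.B (x k + x l) (r + (x i₄ + x i₅)) = C.B (x k + x l) (x i₄ + x i₅) :=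
      fun k l => by rw [map_add, B_comm C _ r, hdr, zero_add]
    refine ⟨![x i₁ + x i₂, x i₂ + x i₃, x i₃ + x i₄, x i₄ + x i₅, r + (x i₄ + x i₅), f],
      isE6_of_lt ?_ ?_⟩
    · intro i
      fin_cases i
      · exact hx.1 _ _ (Ne.symm h2)
      · exact hx.1 _ _ (Ne.symm h3.2)
      · exact hx.1 _ _ (Ne.symm h4.2.2)
      · exact hx.1 _ _ (Ne.symm h5.2.2.2)
      · exact horb _ _ (Ne.symm h5.2.2.2)
      · exact hfD
    · have s12 : C.B (x i₁ + x i₂) (x i₂ + x i₃) = 1 := by
        rw [add_comm (x i₁)]; exact star_B_one hx h2 (Ne.symm h3.2) (Ne.symm h3.1)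
      have s23 : C.B (x i₂ + x i₃) (x i₃ + x i₄) = 1 := by
        rw [add_comm (x i₂)]; exact star_B_one hx h3.2 (Ne.symm h4.2.2) (Ne.symm h4.2.1)
      have s34 : C.B (x i₃ + x i₄) (x i₄ + x i₅) = 1 := by
        rw [add_comm (x i₃)]; exact star_B_one hx h4.2.2 (Ne.symm h5.2.2.2) (Ne.symm h5.2.2.1)
      intro i j hij
      fin_cases i <;> fin_cases j <;> first
        | exact absurd hij (by decide)
        | exact s12
        | exact star_B_zero hx (Ne.symm h3.1) (Ne.symm h4.1) (Ne.symm h3.2) (Ne.symm h4.2.1)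
        | exact star_B_zero hx (Ne.symm h4.1) (Ne.symm h5.1) (Ne.symm h4.2.1) (Ne.symm h5.2.1)
        | exact (hrr _ _).trans (star_B_zero hx (Ne.symm h4.1) (Ne.symm h5.1) (Ne.symm h4.2.1)
            (Ne.symm h5.2.1))
        | exact (B_comm C _ _).trans (hfp _ _)
        | exact s23
        | exact star_B_zero hx (Ne.symm h4.2.1) (Ne.symm h5.2.1) (Ne.symm h4.2.2)
            (Ne.symm h5.2.2.1)
        | exact (hrr _ _).trans (star_B_zero hx (Ne.symm h4.2.1) (Ne.symm h5.2.1)
            (Ne.symm h4.2.2) (Ne.symm h5.2.2.1))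
        | exact s34
        | exact (hrr _ _).trans s34
        | exact (hrr _ _).trans (C.alt _)
        | exact (show C.B (r + (x i₄ + x i₅)) f = 1 by
            rw [map_add C.B, LinearMap.add_apply, hrf, B_comm C _ f, hfp, add_zero])
  rcases cases hn hx he with hce | ⟨p', q', c', hpq', hfe⟩ | hnext
  · exact Or.inr (key ⟨e, he, hre, hce⟩)
  · have hep : C.B e (x p' + x q') = 0 := by
      rw [B_pair, hfe, hfe, ind_self, ind_self, ind_of_ne hpq', ind_of_ne hpq'.symm]
      clear * -; revert c'; decide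
    have hfD := C.add_mem e he (r + (x p' + x q')) (horb _ _ hpq')
      (by rw [map_add, B_comm C e r, hre, hep, add_zero])
    refine Or.inr (key ⟨_, hfD, ?_, fun k l => ?_⟩)
    · rw [map_add (C.B r), map_add (C.B r), hre, C.alt, hdr, add_zero, add_zero]
    · rw [map_add C.B, map_add C.B, LinearMap.add_apply, LinearMap.add_apply, B_pair, hfe, hfe,
        hdr, star_B hx]
      rcases z2_cases c' with rfl | rfl <;> rcases z2_cases (ind p' k) with h | h <;>
        rcases z2_cases (ind q' k) with h' | h' <;> rw [h, h'] <;>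
        rcases z2_cases (ind p' l) with g | g <;>
        rcases z2_cases (ind q' l) with g' | g' <;> rw [g, g'] <;> decide
  · exact hnext

/-- A star with five or more points is everything, grows, or leads to a diagram `E₆`. -/
theorem next_or_sym (hn : 5 ≤ n) (hx : IsStar C x) :
    IsSymType C ∨ Next C n := by
  classical
  by_cases hN : Next C n
  · exact Or.inr hN
  refine Or.inl ⟨n, x, hn, hx, fun _ _ _ _ => star_inj hn hx, ?_⟩
  symm
  refine C.conn _ ?_ ?_ ?_
  · rintro v ⟨i, j, hij, rfl⟩; exact hx.1 i j hij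
  · refine ⟨_, ⟨⟨0, by omega⟩, ⟨1, by omega⟩, ?_, rfl⟩⟩
    simp [Fin.ext_iff]
  · rintro a ⟨i, j, hij, rfl⟩ b hb hab
    rcases cases hn hx hb with h | ⟨p, q, c, hpq, hf⟩ | h
    · rw [B_comm, h] at hab; exact absurd hab.symm z2_one_ne_zero
    · by_contra hnb
      exact hN (next_of_two hn hx hb hpq hf fun h => hnb ⟨p, q, hpq, h⟩)
    · exact absurd h hN

end Star

end Cfsg.Agent.Lib.SympTypeF2x73
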