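import Cfsg.Agent.Lib.SympTypeF2x73.Star

/-!
# The first star and the dichotomy symmetric type or `E₆` (helper73)
-/

set_option autoImplicit false

namespace Cfsg.Agent.Lib.SympTypeF2x73

variable {V : Type*} [AddCommGroup V] [Module (ZMod 2) V] {C : Config V}

/-- A path of four members. -/
def IsPath4 (C : Config V) (v₁ v₂ v₃ v₄ : V) : Prop :=
  (v₁ ∈ C.D ∧ v₂ ∈ C.D ∧ v₃ ∈ C.D ∧ v₄ ∈ C.D) ∧
    (C.B v₁ v₂ = 1 ∧ C.B v₂ v₃ = 1 ∧ C.B v₃ v₄ = 1) ∧
    C.B v₁ v₃ = 0 ∧ C.B v₁ v₄ = 0 ∧ C.B v₂ v₄ = 0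

/-- A path of three members with non-vanishing radical vector extends to one of four. -/
theorem path4_of_path3 {v₁ v₂ v₃ : V} (h₁ : v₁ ∈ C.D) (h₂ : v₂ ∈ C.D) (h₃ : v₃ ∈ C.D)
    (h12 : C.B v₁ v₂ = 1) (h23 : C.B v₂ v₃ = 1) (h13 : C.B v₁ v₃ = 0) {e : V} (he : e ∈ C.D)
    (he1 : C.B v₁ e = 0) (he3 : C.B v₃ e = 1) : ∃ a b c d, IsPath4 C a b c d := by
  rcases z2_cases (C.B v₂ e) with h | h
  · exact ⟨v₁, v₂, v₃, e, ⟨h₁, h₂, h₃, he⟩, ⟨h12, h23, he3⟩, h13, he1, h⟩
  · refine ⟨v₁, v₂, v₃, e + v₃, ⟨h₁, h₂, h₃, C.add_mem e he v₃ h₃ ?_⟩, ⟨h12, h23, ?_⟩, h13, ?_, ?_⟩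
    · rw [B_comm, he3]
    · rw [map_add, he3, C.alt, add_zero]
    · rw [map_add, he1, h13, add_zero]
    · rw [map_add, h, h23, z2_add_self]

theorem exists_path4 (C : Config V) : ∃ a b c d, IsPath4 C a b c d := by
  obtain ⟨a, ha, b, hb, hab, c₀, hc₀, hca, hcb, hcab⟩ := C.big
  have hL : a + b ∈ C.D := C.add_mem a ha b hb hab
  -- some member off the line is adjacent to a member of the line
  obtain ⟨m, hm, d, hd, hdne, hmd⟩ : ∃ m ∈ ({a, b, a + b} : Set V), ∃ d ∈ C.D,
      d ∉ ({a, b, a + b} : Set V) ∧ C.B m d = 1 := by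
    by_contra h
    push Not at h
    have hs : ({a, b, a + b} : Set V) ⊆ C.D := by
      rintro v (rfl | rfl | rfl) <;> assumption
    have := C.conn _ hs ⟨a, by simp⟩ fun m hm d hd hmd => by
      by_contra hdn
      exact h m hm d hd hdn hmd
    rw [← this] at hc₀
    rcases hc₀ with h' | h' | h'
    · exact hca h'
    · exact hcb h'
    · exact hcab h'
  -- arrange a member `p` of the line orthogonal to `d`
  have main : ∀ p m : V, p ∈ C.D → m ∈ C.D → C.B p m = 1 → C.B p d = 0 → C.B m d = 1 →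
      p ≠ d → ∃ a b c d, IsPath4 C a b c d := by
    intro p m hp hm hpm hpd hmd hne
    obtain ⟨e, he, hre⟩ := exists_adj C (fun h => hne (vadd_eq_zero.1 h))
    rw [map_add C.B, LinearMap.add_apply] at hre
    rcases z2_cases (C.B p e) with h | h
    · rw [h, zero_add] at hre
      exact path4_of_path3 hp hm hd hpm hmd hpd he h hre
    · rw [h] at hre
      have h' : C.B d e = 0 := by revert hre; generalize C.B d e = x; revert x; decide
      exact path4_of_path3 hd hm hp (by rw [B_comm, hmd]) (by rw [B_comm, hpm])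
        (by rw [B_comm, hpd]) he h' h
  simp only [Set.mem_insert_iff, Set.mem_singleton_iff, not_or] at hdne
  obtain ⟨hda, hdb, hdab⟩ := hdne
  have hsum : C.B (a + b) d = C.B a d + C.B b d := by rw [map_add, LinearMap.add_apply]
  have hba : C.B b a = 1 := by rw [B_comm, hab]
  have ha3 : C.B a (a + b) = 1 := by rw [map_add, C.alt, hab, zero_add]
  have h3a : C.B (a + b) a = 1 := by rw [B_comm, ha3]
  rcases z2_cases (C.B a d) with hA | hA <;> rcases z2_cases (C.B b d) with hB | hB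
  · rw [hA, hB, add_zero] at hsum
    rcases hm with rfl | rfl | rfl <;> [rw [hA] at hmd; rw [hB] at hmd; rw [hsum] at hmd] <;>
      exact absurd hmd.symm z2_one_ne_zero
  · exact main a b ha hb hab hA hB (Ne.symm hda)
  · exact main b a hb ha hba hB hA (Ne.symm hdb)
  · rw [hA, hB, z2_add_self] at hsum
    exact main (a + b) a hL ha h3a hsum hA (Ne.symm hdab)

/-- The table of the form on the partial sums of a path. -/
def pathTable (i k : Fin 5) : ZMod 2 := if i ≠ 0 ∧ k ≠ 0 ∧ i ≠ k then 1 else 0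

theorem pathTable_spec : ∀ i j k l : Fin 5,
    pathTable i k + pathTable i l + (pathTable j k + pathTable j l) =
      ind i k + ind i l + ind j k + ind j l := by
  decide +kernel

theorem star_of_path4 {v₁ v₂ v₃ v₄ : V} (h : IsPath4 C v₁ v₂ v₃ v₄) :
    ∃ x : Fin 5 → V, IsStar C x := by
  obtain ⟨⟨h1, h2, h3, h4⟩, ⟨h12, h23, h34⟩, h13, h14, h24⟩ := h
  have h21 : C.B v₂ v₁ = 1 := by rw [B_comm, h12]
  have h32 : C.B v₃ v₂ = 1 := by rw [B_comm, h23]
  have h43 : C.B v₄ v₃ = 1 := by rw [B_comm, h34]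
  have h31 : C.B v₃ v₁ = 0 := by rw [B_comm, h13]
  have h41 : C.B v₄ v₁ = 0 := by rw [B_comm, h14]
  have h42 : C.B v₄ v₂ = 0 := by rw [B_comm, h24]
  set x : Fin 5 → V := ![0, v₁, v₁ + v₂, v₁ + v₂ + v₃, v₁ + v₂ + v₃ + v₄] with hx
  have hT : ∀ i k, C.B (x i) (x k) = pathTable i k := by
    intro i k
    fin_cases i <;> fin_cases k <;>
      simp [hx, pathTable, map_add, C.alt, h12, h21, h23, h32, h34, h43, h13, h31, h14, h41,
        h24, h42] <;> decide
  refine ⟨x, ?_, fun i j k l => ?_⟩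
  · have m12 := C.add_mem _ h1 _ h2 h12
    have m23 := C.add_mem _ h2 _ h3 h23
    have m34 := C.add_mem _ h3 _ h4 h34
    have m13 : v₁ + v₂ + v₃ ∈ C.D := C.add_mem _ m12 _ h3 (by simp [h13, h23])
    have m24 : v₂ + v₃ + v₄ ∈ C.D := C.add_mem _ m23 _ h4 (by simp [h24, h34])
    have m14 : v₁ + v₂ + v₃ + v₄ ∈ C.D := C.add_mem _ m13 _ h4 (by simp [h14, h24, h34])
    have hlt : ∀ i j : Fin 5, i < j → x i + x j ∈ C.D := by
      intro i j hij
      have hc : ∀ a b : V, a + (a + b) = b := fun a b => vadd_cancel_left a b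
      fin_cases i <;> fin_cases j <;> simp [hx, add_assoc] at hij ⊢ <;>
        (try simp only [hc, add_left_comm v₂ v₁, add_left_comm v₃ v₁, add_left_comm v₃ v₂]) <;>
        first
          | assumption
          | (simpa [add_assoc] using m13)
          | (simpa [add_assoc] using m24)
          | (simpa [add_assoc] using m14)
    intro i j hij
    rcases lt_or_gt_of_ne hij with h | h
    · exact hlt i j h
    · rw [add_comm]; exact hlt j i h
  · rw [map_add C.B, LinearMap.add_apply, map_add, map_add, hT, hT, hT, hT]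
    exact pathTable_spec i j k l

/-- The configuration is of symmetric type or contains a diagram `E₆`. -/
theorem sym_or_e6 [Finite V] (C : Config V) : IsSymType C ∨ ∃ c, IsE6 C c := by
  obtain ⟨a, b, c, d, h⟩ := exists_path4 C
  obtain ⟨x, hx⟩ := star_of_path4 h
  suffices H : ∀ k n : ℕ, Nat.card V + 2 - n ≤ k → 5 ≤ n → ∀ y : Fin n → V, IsStar C y →
      IsSymType C ∨ ∃ c, IsE6 C c from H _ 5 le_rfl le_rfl x hx
  intro k
  induction k with
  | zero =>
    intro n hk hn y hy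
    have := star_le_card hn hy
    omega
  | succ k ih =>
    intro n hk hn y hy
    rcases next_or_sym hn hy with hs | ⟨z, hz⟩ | he
    · exact Or.inl hs
    · exact ih (n + 1) (by omega) (by omega) z hz
    · exact Or.inr he

end Cfsg.Agent.Lib.SympTypeF2x73
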